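import Cfsg.Agent.H778.GT.RealDef
import Cfsg.Agent.H781.Realized
import Cfsg.Agent.H913.GT.Def

/-!
# S5211, task G2-REAL-b: the fusion systems of the groups `G₂(K) ⋊ D` (helper778)
-/

set_option autoImplicit false

namespace Cfsg.Agent.H778.GT

open Cfsg Cfsg.FusionSystem Cfsg.Agent.H756.PU Cfsg.Agent.H779.G2 Cfsg.Agent.H781

universe u

/-! ### lifting -/

/-- a subgroup of order prime to `p` lifts through a homomorphism whose kernel has no nontrivial `p'`-elements -/
theorem exists_lift {A B : Type*} [Group A] [Group B] [Finite A] {p : ℕ} [hp : Fact p.Prime] (ρ : A →* B)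
    (hker : ∀ a ∈ ρ.ker, (orderOf a).Coprime p → a = 1) {D : Subgroup B} (hD : D ≤ ρ.range)
    (hc : (Nat.card D).Coprime p) : ∃ H : Subgroup A, Nat.card H = Nat.card D ∧ (∀ h ∈ H, ρ h ∈ D) ∧
      ∀ d ∈ D, ∃ h ∈ H, ρ h = d := by
  let E : Subgroup A := D.comap ρ
  let f : E →* D := (ρ.comp E.subtype).codRestrict D (fun e => e.2)
  have hf : Function.Surjective f := by
    rintro ⟨d, hd⟩
    obtain ⟨a, ha⟩ := hD hd
    exact ⟨⟨a, by show ρ a ∈ D; rw [ha]; exact hd⟩, Subtype.ext ha⟩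
  have hN : IsPGroup p f.ker := by
    rintro ⟨n, hn⟩
    have hn1 : ρ (n : A) = 1 := congrArg Subtype.val (MonoidHom.mem_ker.1 hn)
    obtain ⟨k, m, hm, hkm⟩ := Nat.exists_eq_pow_mul_and_not_dvd (orderOf_pos (n : A)).ne' p hp.out.ne_one
    refine ⟨k, Subtype.ext (Subtype.ext ?_)⟩
    show (n : A) ^ p ^ k = 1
    apply hker
    · rw [MonoidHom.mem_ker, map_pow, hn1, one_pow]
    · have h1 : orderOf ((n : A) ^ p ^ k) = m := by
        have h2 : 0 < m := Nat.pos_of_ne_zero (by rintro rfl; exact hm (dvd_zero p))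
        rw [orderOf_pow_of_dvd (pow_ne_zero _ hp.out.ne_zero) (by rw [hkm]; exact Dvd.intro _ rfl), hkm]
        exact Nat.mul_div_cancel_left _ (pow_pos hp.out.pos _)
      rw [h1]
      exact ((hp.out.coprime_iff_not_dvd).2 hm).symm
  have hidx : f.ker.index = Nat.card D := by
    rw [Subgroup.index_ker, MonoidHom.range_eq_top.2 hf, Subgroup.card_top]
  have hcop : Nat.Coprime (Nat.card f.ker) f.ker.index := by
    obtain ⟨j, hj⟩ := IsPGroup.iff_card.1 hN
    rw [hidx, hj]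
    exact (hc.pow_right j).symm
  obtain ⟨H, hH⟩ := Subgroup.exists_right_complement'_of_coprime hcop
  refine ⟨H.map E.subtype, ?_, ?_, ?_⟩
  · rw [Nat.card_congr (H.equivMapOfInjective E.subtype E.subtype_injective).toEquiv.symm, ← hidx]
    have h1 := hH.card_mul_card
    have h2 := f.ker.card_mul_index
    rw [← h2] at h1
    exact Nat.eq_of_mul_eq_mul_left Nat.card_pos h1
  · rintro _ ⟨h, -, rfl⟩
    exact h.2
  · intro d hd
    obtain ⟨e, he⟩ := hf ⟨d, hd⟩
    obtain ⟨⟨n, h⟩, hnh⟩ := hH.surjective e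
    refine ⟨E.subtype h, ⟨h, h.2, rfl⟩, ?_⟩
    have h1 : f ((n : E) * (h : E)) = f e := by rw [← hnh]
    rw [map_mul, MonoidHom.mem_ker.1 n.2, one_mul, he] at h1
    exact congrArg Subtype.val h1

/-! ### the Weyl elements are unique -/

section

variable {K : Type u} [Field K]

theorem IsWa.unique {γ γ' : MulAut (Qa K)} (h : IsWa γ) (h' : IsWa γ') : γ = γ' := by
  ext1 g
  apply Subtype.ext
  apply GU.ext
  · rw [show ((γ g : Qa K) : GU K).a = 0 from (γ g).2, show ((γ' g : Qa K) : GU K).a = 0 from (γ' g).2]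
  · rw [h.b, h'.b]
  · rw [h.c, h'.c]
  · rw [h.d, h'.d]
  · rw [h.e, h'.e]
  · rw [h.f, h'.f]

theorem IsWb.unique {γ γ' : MulAut (Qb K)} (h : IsWb γ) (h' : IsWb γ') : γ = γ' := by
  ext1 g
  apply Subtype.ext
  apply GU.ext
  · rw [h.a, h'.a]
  · rw [show ((γ g : Qb K) : GU K).b = 0 from (γ g).2, show ((γ' g : Qb K) : GU K).b = 0 from (γ' g).2]
  · rw [h.c, h'.c]
  · rw [h.d, h'.d]
  · rw [h.e, h'.e]
  · rw [h.f, h'.f]

end

/-! ### the group -/

/-- **(REAL)**, the general form -/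
theorem real_core (hG : StGrp.{u}) {K : Type u} [Field K] {p n : ℕ} [Fact p.Prime] (hK : HypG K p n)
    (D : Subgroup (MulAut (GU K))) (hDT : D ≤ TT K) (hDc : (Nat.card D).Coprime p) (hfull : Full D)
    {G0 T : Type u} [Group G0] [Finite G0] [Group T] [Finite T] (ι₀ : GU K →* G0) (inj : Function.Injective ι₀)
    (syl : ¬ p ∣ ι₀.range.index) (ρ : T →* MulAut (GU K)) (A : T →* MulAut G0)
    (hker : ∀ a ∈ ρ.ker, (orderOf a).Coprime p → a = 1) (hTTρ : TT K ≤ ρ.range)
    (hact : ∀ (t : T) (x : GU K), A t (ι₀ x) = ι₀ (ρ t x))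
    (nrm : ∀ g : G0, (∀ x : GU K, g * ι₀ x * g⁻¹ ∈ ι₀.range) →
      ∃ (u : GU K) (s t : K) (α : MulAut (GU K)), IsTor α s t (RingEquiv.refl K) ∧
        ∀ x : GU K, g * ι₀ x * g⁻¹ = ι₀ (u * α x * u⁻¹))
    (wa : ∃ g : G0, ∀ γ : MulAut (Qa K), IsWa γ → ∀ e : Qa K, g * ι₀ (e : GU K) * g⁻¹ = ι₀ ((γ e : Qa K) : GU K))
    (wb : ∃ g : G0, ∀ γ : MulAut (Qb K), IsWb γ → ∀ e : Qb K, g * ι₀ (e : GU K) * g⁻¹ = ι₀ ((γ e : Qb K) : GU K)) :
    ∃ F : FusionSystem (⊤ : Subgroup (GU K)), F.IsSaturated p ∧ F.IsRealizable p ∧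
      AF F = (MulAut.conj : GU K →* MulAut (GU K)).range ⊔ D ∧
      (∀ γ : MulAut (Qa K), IsWa γ → γ ∈ F.autGroup (Qa K)) ∧
      (∀ γ : MulAut (Qb K), IsWb γ → γ ∈ F.autGroup (Qb K)) := by
  obtain ⟨hcard, hpg, -⟩ := hG hK
  have hp : p.Prime := hK.pp
  have hfinK : Finite K := hK.fin
  have hfinU : Finite (GU K) := inferInstance
  obtain ⟨TD, hTDc', hTD1, hTD2⟩ := exists_lift ρ hker (hDT.trans hTTρ) hDc
  have hTDc : (Nat.card TD).Coprime p := by rw [hTDc']; exact hDc
  let φ : TD →* MulAut G0 := A.comp TD.subtype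
  have hφ : ∀ (t : TD) (x : GU K), φ t (ι₀ x) = ι₀ (ρ t x) := fun t x => hact t x
  have hfinG : Finite (G0 ⋊[φ] TD) := Finite.of_equiv _ SemidirectProduct.equivProd.symm
  let ι : (⊤ : Subgroup (GU K)) →* G0 ⋊[φ] TD :=
    (SemidirectProduct.inl.comp ι₀).comp (Subgroup.topEquiv (G := GU K)).toMonoidHom
  have hι : ∀ x : (⊤ : Subgroup (GU K)), ι x = SemidirectProduct.inl (ι₀ (x : GU K)) := fun x => rfl
  have hinj : Function.Injective ι := by
    intro a b hab
    rw [hι, hι] at hab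
    exact Subtype.ext (inj (SemidirectProduct.inl_injective hab))
  -- conjugation in the semidirect product
  have hconj : ∀ (g : G0 ⋊[φ] TD) (x : GU K), g * SemidirectProduct.inl (ι₀ x) * g⁻¹ =
      SemidirectProduct.inl (g.left * ι₀ (ρ g.right x) * g.left⁻¹) := by
    intro g x
    have h1 := SemidirectProduct.inl_aut (φ := φ) g.right (ι₀ x)
    have h2 := (SemidirectProduct.inl_left_mul_inr_right g).symm
    rw [map_mul, map_mul, ← hφ, h1, map_inv]
    conv_lhs => rw [h2]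
    rw [mul_inv_rev, map_inv]
    simp only [mul_assoc]
  -- the Sylow subgroup
  have hrangep : IsPGroup p ι.range := hpg.of_surjective ι.rangeRestrict ι.rangeRestrict_surjective
  have hidx : ¬ p ∣ ι.range.index := by
    have h1 : Nat.card ι.range = Nat.card (GU K) := by
      rw [← Nat.card_congr (MonoidHom.ofInjective hinj).toEquiv]
      exact Nat.card_congr Subgroup.topEquiv.toEquiv
    have h2 : Nat.card ι₀.range = Nat.card (GU K) :=
      (Nat.card_congr (MonoidHom.ofInjective inj).toEquiv).symm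
    have h3 : Nat.card (G0 ⋊[φ] TD) = Nat.card G0 * Nat.card TD := by
      rw [Nat.card_congr SemidirectProduct.equivProd, Nat.card_prod]
    have h4 := ι.range.card_mul_index
    rw [h3, ← ι₀.range.card_mul_index, h1, h2, mul_assoc] at h4
    have h5 := Nat.eq_of_mul_eq_mul_left Nat.card_pos h4
    rw [h5]
    apply hp.not_dvd_mul syl
    rw [← Nat.Prime.coprime_iff_not_dvd hp]
    exact hTDc.symm
  let T : Sylow p (G0 ⋊[φ] TD) := hrangep.toSylow hidx
  have hT : (T : Subgroup (G0 ⋊[φ] TD)) = ι.range := rfl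
  have hreal := pullback_isRealizedBy ι hinj
  -- membership in automizers
  have haut : ∀ (Q : Subgroup (GU K)) (γ : MulAut Q), γ ∈ (pullback ι hinj).autGroup Q ↔
      ∃ g : G0 ⋊[φ] TD, ∀ e : Q, ι₀ ((γ e : Q) : GU K) = g.left * ι₀ (ρ g.right (e : GU K)) * g.left⁻¹ := by
    intro Q γ
    rw [H802.mem_autGroup_iff _ le_top]
    constructor
    · rintro ⟨h1, h2, g, hg⟩
      refine ⟨g, fun e => ?_⟩
      have h3 := hg e
      rw [hι, hι, hconj] at h3
      exact SemidirectProduct.inl_injective h3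
    · rintro ⟨g, hg⟩
      refine ⟨le_top, fun _ => trivial, g, fun e => ?_⟩
      rw [hι, hι, hconj]
      exact congrArg _ (hg e)
  -- the automizer of the whole group
  have hAF : ∀ α : MulAut (GU K), α ∈ AF (pullback ι hinj) ↔
      ∃ g : G0 ⋊[φ] TD, ∀ x : GU K, ι₀ (α x) = g.left * ι₀ (ρ g.right x) * g.left⁻¹ := by
    intro α
    have h1 : α ∈ AF (pullback ι hinj) ↔
        (MulAut.congr (Subgroup.topEquiv (G := GU K))).symm α ∈ (pullback ι hinj).autGroup ⊤ := by
      constructor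
      · rintro ⟨β, hβ, rfl⟩
        rw [MulEquiv.coe_toMonoidHom, MulEquiv.symm_apply_apply]
        exact hβ
      · intro h
        exact ⟨_, h, MulEquiv.apply_symm_apply _ _⟩
    rw [h1, haut]
    constructor
    · rintro ⟨g, hg⟩
      exact ⟨g, fun x => hg ⟨x, trivial⟩⟩
    · rintro ⟨g, hg⟩
      exact ⟨g, fun x => hg x⟩
  have hρD : ∀ t : TD, ρ t ∈ D := fun t => hTD1 _ t.2
  refine ⟨pullback ι hinj, isSaturated_of_isRealizedBy hreal T hT, ⟨_, inferInstance, hfinG, ι, hreal, T, hT⟩, ?_, ?_, ?_⟩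
  · apply le_antisymm
    · intro α hα
      obtain ⟨g, hg⟩ := (hAF α).1 hα
      obtain ⟨u, s, t, a, ha, h⟩ := nrm g.left (fun x => by
        refine ⟨α ((ρ g.right)⁻¹ x), ?_⟩
        rw [hg, MulAut.apply_inv_self])
      have h1 : α = MulAut.conj u * (a * ρ g.right) := by
        ext1 x
        apply inj
        rw [hg, h]
        rfl
      rw [h1]
      exact Subgroup.mul_mem_sup ⟨u, rfl⟩ (D.mul_mem (hfull s t a ha) (hρD _))
    · apply sup_le
      · rintro _ ⟨u, rfl⟩
        rw [hAF]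
        refine ⟨SemidirectProduct.inl (ι₀ u), fun x => ?_⟩
        rw [SemidirectProduct.left_inl, SemidirectProduct.right_inl, OneMemClass.coe_one, map_one, MulAut.one_apply, ← map_mul, ← map_inv,
          ← map_mul]
        rfl
      · intro d hd
        obtain ⟨t, htD, ht⟩ := hTD2 d hd
        rw [hAF]
        refine ⟨SemidirectProduct.inr ⟨t, htD⟩, fun x => ?_⟩
        rw [SemidirectProduct.left_inr, SemidirectProduct.right_inr, one_mul, inv_one, mul_one, ht]
  · intro γ hγ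
    obtain ⟨g, hg⟩ := wa
    rw [haut]
    refine ⟨SemidirectProduct.inl g, fun e => ?_⟩
    rw [SemidirectProduct.left_inl, SemidirectProduct.right_inl, OneMemClass.coe_one, map_one, MulAut.one_apply, hg γ hγ]
  · intro γ hγ
    obtain ⟨g, hg⟩ := wb
    rw [haut]
    refine ⟨SemidirectProduct.inl g, fun e => ?_⟩
    rw [SemidirectProduct.left_inl, SemidirectProduct.right_inl, OneMemClass.coe_one, map_one, MulAut.one_apply, hg γ hγ]

/-- **(REAL)** from the concrete group -/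
theorem real_of (hA : StRealA.{u}) (hG : StGrp.{u}) : StReal.{u} := by
  intro K _ p n _ hK D hDT hDc hfull
  obtain ⟨R⟩ := hA hK
  have hp : p.Prime := hK.pp
  have hfinK : Finite K := hK.fin
  have hfinU : Finite (GU K) := inferInstance
  have hfinM : Finite (MulAut (GU K)) := Finite.of_injective (fun e : MulAut (GU K) => (e : GU K → GU K))
    (fun a b h => MulEquiv.ext (fun x => congrFun h x))
  have hfinM0 : Finite (MulAut R.G0) := Finite.of_injective (fun e : MulAut R.G0 => (e : R.G0 → R.G0))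
    (fun a b h => MulEquiv.ext (fun x => congrFun h x))
  -- the pairs of compatible automorphisms
  let 𝒯 : Subgroup (MulAut (GU K) × MulAut R.G0) :=
    { carrier := {t | ∀ x : GU K, t.2 (R.ι x) = R.ι (t.1 x)}
      one_mem' := fun x => rfl
      mul_mem' := by
        intro s t hs ht x
        show s.2 (t.2 (R.ι x)) = R.ι (s.1 (t.1 x))
        rw [ht, hs]
      inv_mem' := by
        intro s hs x
        show s.2⁻¹ (R.ι x) = R.ι (s.1⁻¹ x)
        have h1 := hs (s.1⁻¹ x)
        rw [MulAut.apply_inv_self] at h1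
        rw [← h1, MulAut.inv_apply_self] }
  let ρ : 𝒯 →* MulAut (GU K) := (MonoidHom.fst _ _).comp 𝒯.subtype
  let A : 𝒯 →* MulAut R.G0 := (MonoidHom.snd _ _).comp 𝒯.subtype
  have hact : ∀ (t : 𝒯) (x : GU K), A t (R.ι x) = R.ι (ρ t x) := fun t x => t.2 x
  have hker : ∀ a ∈ ρ.ker, (orderOf a).Coprime p → a = 1 := by
    intro a ha ho
    have h1 : ρ a = 1 := ha
    have h2 : A a = 1 := by
      refine R.cent _ (fun x => by rw [hact, h1, MulAut.one_apply]) ?_
      exact Nat.Coprime.coprime_dvd_left (orderOf_map_dvd A a) ho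
    exact Subtype.ext (Prod.ext h1 h2)
  -- the range of `ρ`
  have hTTρ : TT K ≤ ρ.range := by
    have hmem : ∀ (α : MulAut (GU K)) (b : MulAut R.G0), (∀ x, b (R.ι x) = R.ι (α x)) → α ∈ ρ.range :=
      fun α b h => ⟨⟨(α, b), h⟩, rfl⟩
    rw [TT, Subgroup.closure_le]
    rintro α (⟨s, t, τ, h⟩ | h)
    · obtain ⟨b, hb⟩ := R.tor α s t τ h
      exact hmem α b hb
    · obtain ⟨b, β, s, t, τ, hβ, hb⟩ := R.gr α h
      obtain ⟨b', hb'⟩ := R.tor β s t τ hβ
      have h1 : β * α ∈ ρ.range := hmem (β * α) b hb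
      have h2 : β ∈ ρ.range := hmem β b' hb'
      have h3 := mul_mem (inv_mem h2) h1
      rwa [inv_mul_cancel_left] at h3
  refine real_core hG hK D hDT hDc hfull R.ι R.inj R.syl ρ A hker hTTρ hact R.nrm ?_ ?_
  · obtain ⟨g, γ, hγ, hg⟩ := R.wa
    refine ⟨g, fun γ' hγ' => ?_⟩
    rw [IsWa.unique hγ' hγ]
    exact hg
  · obtain ⟨g, γ, hγ, hg⟩ := R.wb
    refine ⟨g, fun γ' hγ' => ?_⟩
    rw [IsWb.unique hγ' hγ]
    exact hg

/-- **(REAL)** from the data of helper913 -/
theorem real_of' (hA : H913.GT.StRealA.{u}) (hG : StGrp.{u}) : StReal.{u} := by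
  intro K _ p n _ hK D hDT hDc hfull
  obtain ⟨R⟩ := hA hK
  have hfinK : Finite K := hK.fin
  have hfinM : Finite (MulAut (GU K)) := Finite.of_injective (fun e : MulAut (GU K) => (e : GU K → GU K))
    (fun a b h => MulEquiv.ext (fun x => congrFun h x))
  have hfinT : Finite R.T := Finite.of_injective R.ρ R.injT
  refine real_core hG hK D hDT hDc hfull R.ι R.inj R.syl R.ρ R.A (fun a ha _ => ?_) R.rng R.act R.nrm R.wa R.wb
  exact R.injT (by rw [MonoidHom.mem_ker.1 ha, map_one])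

end Cfsg.Agent.H778.GT
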