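import Cfsg.Agent.H778.GT.Sem

/-!
# S5211: the kernel of `Γ` on `Q_a / Z₁` is `Inn(Q_a)`, `p ≠ 3` (helper778)
-/

set_option autoImplicit false
set_option linter.unusedSectionVars false

namespace Cfsg.Agent.H778.GT

open Cfsg Cfsg.FusionSystem Cfsg.Agent.H756.PU Cfsg.Agent.H779.G2

universe u

variable {K : Type u} [Field K]

/-- automorphisms trivial on `Q_a / Z₁` are trivial on `Z₁` -/
theorem zz_fix (h3 : (3 : K) ≠ 0) {γ : MulAut (Qa K)} (h : ∀ g : Qa K, ph ((γ g : Qa K) : GU K) = ph (g : GU K)) (t : K) :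
    γ (zz t) = zz t := by
  obtain ⟨v, w, rfl⟩ := om_surj t
  have hg : ∀ v, gV h3 γ v = v := by
    intro v
    have h1 := h (sc v)
    rw [gV_ph h3, ph_sc] at h1
    exact h1
  rw [gZ_zz h3, ← om_gV, hg, hg]

theorem pow_zz (h3 : (3 : K) ≠ 0) {γ : MulAut (Qa K)} (h : ∀ g : Qa K, ph ((γ g : Qa K) : GU K) = ph (g : GU K))
    (x : Qa K) : ∃ l : K, ∀ k : ℕ, (γ ^ k) x = zz (k * l) * x := by
  have h1 : ph ((γ x * x⁻¹ : Qa K) : GU K) = 0 := by
    have h2 := ph_mul (γ x * x⁻¹) x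
    rw [inv_mul_cancel_right, h] at h2
    exact left_eq_add.1 (by rw [add_comm] at h2; exact h2)
  have h2 := eq_zz h1
  refine ⟨((γ x * x⁻¹ : Qa K) : GU K).f, fun k => ?_⟩
  set l := ((γ x * x⁻¹ : Qa K) : GU K).f
  have h4 : γ x = zz l * x := by rw [← h2, inv_mul_cancel_right]
  induction k with
  | zero =>
    rw [pow_zero, Nat.cast_zero, zero_mul]
    have : (zz (0 : K) : Qa K) = 1 := rfl
    rw [this, one_mul]
    rfl
  | succ k ih =>
    rw [pow_succ', MulAut.mul_apply, ih, map_mul, zz_fix h3 h, h4, ← mul_assoc, zz_mul]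
    congr 2
    push_cast
    ring

/-- elements of `Aut_S(Q)` -/
theorem mem_aut {Q : Subgroup (GU K)} {α : MulAut Q} (h : α ∈ autInducedBy (⊤ : Subgroup (GU K)) Q) :
    ∃ x : GU K, ∀ e : Q, ((α e : Q) : GU K) = x * e * x⁻¹ := by
  induction h using Subgroup.closure_induction with
  | mem α h => obtain ⟨g, -, hg⟩ := h; exact ⟨g, hg⟩
  | one => exact ⟨1, fun e => by simp⟩
  | mul α β _ _ hα hβ =>
    obtain ⟨x, hx⟩ := hα
    obtain ⟨y, hy⟩ := hβ
    refine ⟨x * y, fun e => ?_⟩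
    rw [MulAut.mul_apply, hx, hy]
    group
  | inv α _ hα =>
    obtain ⟨x, hx⟩ := hα
    refine ⟨x⁻¹, fun e => ?_⟩
    have h1 := hx (α⁻¹ e)
    rw [MulAut.apply_inv_self] at h1
    rw [h1]
    group

/-- **The kernel of `Γ` on `Q_a / Z₁` is `Inn(Q_a)`.** -/
theorem ker_inn {p n : ℕ} (hG : HypG K p n) (hp : p ≠ 3) {Γ : Subgroup (MulAut (Qa K))} {D : Subgroup (MulAut (GU K))}
    (hP : Par p (Qa K) Γ D) {γ : MulAut (Qa K)} (hγ : γ ∈ Γ)
    (h : ∀ g : Qa K, ph ((γ g : Qa K) : GU K) = ph (g : GU K)) : γ ∈ Inn (Qa K) := by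
  have hch := hG.char
  have h3 : (3 : K) ≠ 0 := by
    intro h0
    have h1 : ((3 : ℕ) : K) = 0 := by exact_mod_cast h0
    rw [CharP.cast_eq_zero_iff K p] at h1
    exact hp ((Nat.prime_dvd_prime_iff_eq hG.pp Nat.prime_three).1 h1)
  -- the kernel
  let N : Subgroup (MulAut (Qa K)) :=
    { carrier := {γ | γ ∈ Γ ∧ ∀ g : Qa K, ph ((γ g : Qa K) : GU K) = ph (g : GU K)}
      one_mem' := ⟨Γ.one_mem, fun g => rfl⟩
      mul_mem' := by
        rintro a b ⟨ha, ha'⟩ ⟨hb, hb'⟩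
        exact ⟨Γ.mul_mem ha hb, fun g => by rw [MulAut.mul_apply, ha', hb']⟩
      inv_mem' := by
        rintro a ⟨ha, ha'⟩
        refine ⟨Γ.inv_mem ha, fun g => ?_⟩
        have h1 := ha' (a⁻¹ g)
        rw [MulAut.apply_inv_self] at h1
        exact h1.symm }
  have hNp : IsPGroup p N := by
    rintro ⟨a, ha, ha'⟩
    refine ⟨1, Subtype.ext ?_⟩
    show a ^ p ^ 1 = 1
    rw [pow_one]
    ext1 x
    obtain ⟨l, hl⟩ := pow_zz h3 ha' x
    rw [hl p, CharP.cast_eq_zero, zero_mul]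
    have : (zz (0 : K) : Qa K) = 1 := rfl
    rw [this, one_mul]
    rfl
  obtain ⟨g, hg, hgN⟩ := hP.syl N (fun x hx => hx.1) hNp
  have hconj : g⁻¹ * γ * g ∈ N := by
    refine ⟨Γ.mul_mem (Γ.mul_mem (Γ.inv_mem hg) hγ) hg, fun x => ?_⟩
    rw [MulAut.mul_apply, MulAut.mul_apply]
    have h1 := ph_congr h3 g⁻¹ (h (g x))
    rw [MulAut.inv_apply_self] at h1
    exact h1
  have h1 := hgN _ hconj
  have h2 : g * (g⁻¹ * γ * g) * g⁻¹ = γ := by group
  rw [h2] at h1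
  obtain ⟨x, hx⟩ := mem_aut h1
  -- `x ∈ Q_a`
  have hxa : x.a = 0 := by
    have h4 := congrFun (h (sc (fun i => if i = 0 then 1 else 0))) 1
    have h5 : ((γ (sc (fun i => if i = 0 then 1 else 0)) : Qa K) : GU K).c = 0 := h4
    rw [hx] at h5
    simp [sc] at h5
    have h6 : -x.a = 0 := by linear_combination h5
    exact neg_eq_zero.1 h6
  refine ⟨⟨x, hxa⟩, ?_⟩
  ext1 e
  apply Subtype.ext
  rw [hx]
  rfl

end Cfsg.Agent.H778.GT
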