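import Cfsg.Agent.H779.G2.Stmts

/-!
# S5211, task G2-REAL-b: the interface to the concrete group `G₂(K)` (helper778)
-/

set_option autoImplicit false

namespace Cfsg.Agent.H778.GT

open Cfsg Cfsg.FusionSystem Cfsg.Agent.H756.PU Cfsg.Agent.H779.G2

universe u

/-- The data to be supplied by the concrete group `G0 = G₂(K)`. -/
structure RData (K : Type u) [Field K] (p : ℕ) where
  G0 : Type u
  [grpG : Group G0]
  [finG : Finite G0]
  /-- the embedding -/
  ι : GU K →* G0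
  inj : Function.Injective ι
  syl : ¬ p ∣ ι.range.index
  /-- torus elements and field automorphisms -/
  tor : ∀ (α : MulAut (GU K)) (s t : K) (τ : K ≃+* K), IsTor α s t τ →
    ∃ b : MulAut G0, ∀ x : GU K, b (ι x) = ι (α x)
  /-- the graph automorphism, up to a torus element and a field automorphism -/
  gr : ∀ α : MulAut (GU K), IsGr α → ∃ (b : MulAut G0) (β : MulAut (GU K)) (s t : K) (τ : K ≃+* K),
    IsTor β s t τ ∧ ∀ x : GU K, b (ι x) = ι (β (α x))
  /-- `p'`-automorphisms centralizing the Sylow subgroup are trivial -/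
  cent : ∀ b : MulAut G0, (∀ x : GU K, b (ι x) = ι x) → (orderOf b).Coprime p → b = 1
  /-- the normalizer of the Sylow subgroup -/
  nrm : ∀ g : G0, (∀ x : GU K, g * ι x * g⁻¹ ∈ ι.range) →
    ∃ (u : GU K) (s t : K) (α : MulAut (GU K)), IsTor α s t (RingEquiv.refl K) ∧
      ∀ x : GU K, g * ι x * g⁻¹ = ι (u * α x * u⁻¹)
  wa : ∃ (g : G0) (γ : MulAut (Qa K)), IsWa γ ∧ ∀ e : Qa K, g * ι (e : GU K) * g⁻¹ = ι ((γ e : Qa K) : GU K)
  wb : ∃ (g : G0) (γ : MulAut (Qb K)), IsWb γ ∧ ∀ e : Qb K, g * ι (e : GU K) * g⁻¹ = ι ((γ e : Qb K) : GU K)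

attribute [instance] RData.grpG RData.finG

/-- (REAL-a) -/
def StRealA : Prop :=
  ∀ {K : Type u} [Field K] {p n : ℕ} [Fact p.Prime], HypG K p n → Nonempty (RData.{u} K p)

/-! ### the field `cent` from generation and centralizers -/

section cent

variable {G : Type*} [Group G] [Finite G]

/-- an automorphism of order prime to `|Q|`, trivial on `Q`, is trivial on the elements normalizing `Q` if `C(Q) ≤ Q` -/
theorem fix_of {Q : Subgroup G} {p : ℕ} (hQ : IsPGroup p Q) (hc : ∀ g : G, (∀ x ∈ Q, g * x = x * g) → g ∈ Q)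
    {b : MulAut G} (hb : ∀ x ∈ Q, b x = x) (ho : (orderOf b).Coprime p) {g : G} (hg : ∀ x ∈ Q, g⁻¹ * x * g ∈ Q) :
    b g = g := by
  -- `b g = g c` with `c ∈ Q`
  have h1 : g⁻¹ * b g ∈ Q := by
    apply hc
    intro x hx
    have hx' : g * (g⁻¹ * x * g) * g⁻¹ = x := by group
    -- conjugation by `g` and by `b g` agree on `Q^g`
    have hgx : ∀ y ∈ Q, b g * (g⁻¹ * y * g) * (b g)⁻¹ = y := by
      intro y hy
      have h2 : b (g * (g⁻¹ * y * g) * g⁻¹) = y := by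
        have e : g * (g⁻¹ * y * g) * g⁻¹ = y := by group
        rw [e, hb y hy]
      rw [map_mul, map_mul, map_inv, hb _ (hg y hy)] at h2
      exact h2
    -- `Q^g = Q` since `Q` is finite
    obtain ⟨y, hy, hyx⟩ : ∃ y ∈ Q, g⁻¹ * y * g = x := by
      let f : Q → Q := fun y => ⟨g⁻¹ * y * g, hg y y.2⟩
      have hf : Function.Injective f := by
        intro y z h
        have h3 : g⁻¹ * (y : G) * g = g⁻¹ * z * g := congrArg Subtype.val h
        exact Subtype.ext (mul_left_cancel (mul_right_cancel h3))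
      obtain ⟨y, hy⟩ := (Finite.surjective_of_injective hf) ⟨x, hx⟩
      exact ⟨y, y.2, congrArg Subtype.val hy⟩
    have h4 := hgx y hy
    rw [hyx] at h4
    have h5 : g * x * g⁻¹ = y := by rw [← hyx]; group
    have h6 : b g * x * (b g)⁻¹ = g * x * g⁻¹ := by rw [h4, h5]
    calc g⁻¹ * b g * x = g⁻¹ * (b g * x * (b g)⁻¹) * b g := by group
      _ = g⁻¹ * (g * x * g⁻¹) * b g := by rw [h6]
      _ = x * (g⁻¹ * b g) := by group
  set c := g⁻¹ * b g with hcdef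
  have hbg : b g = g * c := by rw [hcdef]; group
  have hpow : ∀ n : ℕ, (b ^ n) g = g * c ^ n := by
    intro n
    induction n with
    | zero => simp
    | succ n ih =>
      rw [pow_succ', MulAut.mul_apply, ih, map_mul, hbg, map_pow, hb c h1, mul_assoc, ← pow_succ']
  have h7 : c ^ orderOf b = 1 := by
    have := hpow (orderOf b)
    rw [pow_orderOf_eq_one, MulAut.one_apply] at this
    exact (mul_eq_left.1 this.symm)
  obtain ⟨k, hk⟩ := hQ ⟨c, h1⟩
  have hk' : c ^ p ^ k = 1 := congrArg Subtype.val hk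
  have h8 : orderOf c ∣ Nat.gcd (orderOf b) (p ^ k) :=
    Nat.dvd_gcd (orderOf_dvd_of_pow_eq_one h7) (orderOf_dvd_of_pow_eq_one hk')
  rw [Nat.Coprime.gcd_eq_one (ho.pow_right k), Nat.dvd_one, orderOf_eq_one_iff] at h8
  rw [hbg, h8, mul_one]

end cent

/-- the field `cent` of `RData`: `C_G(ι Q_a) ≤ ι Q_a`, `C_G(ι Q_b) ≤ ι Q_b` and `G0` is generated by `ι(GU)`, elements
normalizing `ι Q_a` and elements normalizing `ι Q_b` -/
theorem cent_of {K : Type u} [Field K] [Finite K] {p : ℕ} (hpg : IsPGroup p (⊤ : Subgroup (GU K))) {G0 : Type u} [Group G0] [Finite G0]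
    (ι : GU K →* G0)
    (ca : ∀ g : G0, (∀ x ∈ Qa K, g * ι x = ι x * g) → ∃ y ∈ Qa K, g = ι y)
    (cb : ∀ g : G0, (∀ x ∈ Qb K, g * ι x = ι x * g) → ∃ y ∈ Qb K, g = ι y)
    (gen : Subgroup.closure ((ι.range : Set G0) ∪ {g | ∀ x ∈ Qa K, ∃ y ∈ Qa K, g⁻¹ * ι x * g = ι y} ∪
      {g | ∀ x ∈ Qb K, ∃ y ∈ Qb K, g⁻¹ * ι x * g = ι y}) = ⊤)
    (b : MulAut G0) (hb : ∀ x : GU K, b (ι x) = ι x) (ho : (orderOf b).Coprime p) : b = 1 := by
  have hpQ : ∀ Q : Subgroup (GU K), IsPGroup p (Q.map ι) := fun Q => by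
    exact (hpg.to_le le_top).map ι
  have key : ∀ Q : Subgroup (GU K), (∀ g : G0, (∀ x ∈ Q, g * ι x = ι x * g) → ∃ y ∈ Q, g = ι y) →
      ∀ g : G0, (∀ x ∈ Q, ∃ y ∈ Q, g⁻¹ * ι x * g = ι y) → b g = g := by
    intro Q hc g hg
    refine fix_of (hpQ Q) (fun g hg => ?_) ?_ ho ?_
    · obtain ⟨y, hy, rfl⟩ := hc g (fun x hx => hg _ ⟨x, hx, rfl⟩)
      exact ⟨y, hy, rfl⟩
    · rintro _ ⟨x, -, rfl⟩
      exact hb x
    · rintro _ ⟨x, hx, rfl⟩
      obtain ⟨y, hy, h⟩ := hg x hx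
      exact ⟨y, hy, h.symm⟩
  have hle : Subgroup.closure ((ι.range : Set G0) ∪ {g | ∀ x ∈ Qa K, ∃ y ∈ Qa K, g⁻¹ * ι x * g = ι y} ∪
      {g | ∀ x ∈ Qb K, ∃ y ∈ Qb K, g⁻¹ * ι x * g = ι y}) ≤ (b.toMonoidHom.eqLocus (MonoidHom.id G0)) := by
    rw [Subgroup.closure_le]
    rintro g ((⟨x, rfl⟩ | hg) | hg)
    · exact hb x
    · exact key _ ca g hg
    · exact key _ cb g hg
  ext g
  have h1 : g ∈ b.toMonoidHom.eqLocus (MonoidHom.id G0) := hle (gen ▸ Subgroup.mem_top g)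
  exact h1

end Cfsg.Agent.H778.GT
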