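import Cfsg.Agent.H779.G2.Stmts3

/-!
# S5211, `StSem`: automorphisms of `Q_a` are semilinear on `Q_a / Z₁`, `p ≠ 3` (helper778)
-/

set_option autoImplicit false
set_option linter.unusedSectionVars false
set_option linter.unusedSimpArgs false

namespace Cfsg.Agent.H778.GT

open Cfsg Cfsg.Agent.H779.G2

universe u

section alg

variable {K : Type u} [Field K]

/-- the commutator form -/
def om (v w : Fin 4 → K) : K := 3 * (v 2 * w 1 - w 2 * v 1) - (v 3 * w 0 - w 3 * v 0)

theorem om_smul_left (c : K) (v w : Fin 4 → K) : om (c • v) w = c * om v w := by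
  simp only [om, Pi.smul_apply, smul_eq_mul]; ring

theorem om_smul_right (c : K) (v w : Fin 4 → K) : om v (c • w) = c * om v w := by
  simp only [om, Pi.smul_apply, smul_eq_mul]; ring

theorem om_add_left (u v w : Fin 4 → K) : om (u + v) w = om u w + om v w := by
  simp only [om, Pi.add_apply]; ring

theorem om_sub_left (u v w : Fin 4 → K) : om (u - v) w = om u w - om v w := by
  simp only [om, Pi.sub_apply]; ring

theorem om_nd (h3 : (3 : K) ≠ 0) {v : Fin 4 → K} (h : ∀ w, om v w = 0) : v = 0 := by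
  have h0 : v 0 = 0 := by
    have := h (Pi.single 3 1)
    simpa [om, Pi.single_apply] using this
  have h1 : v 3 = 0 := by
    have := h (Pi.single 0 1)
    simpa [om, Pi.single_apply] using this
  have h2 : v 1 = 0 := by
    have := h (Pi.single 2 1)
    simp [om, Pi.single_apply] at this
    exact this.resolve_left h3
  have h4 : v 2 = 0 := by
    have := h (Pi.single 1 1)
    simp [om, Pi.single_apply] at this
    exact this.resolve_left h3
  funext i
  fin_cases i
  · exact h0
  · exact h2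
  · exact h4
  · exact h1

theorem om_surj (x : K) : ∃ v w : Fin 4 → K, om v w = x :=
  ⟨fun i => if i = 0 then x else 0, fun i => if i = 3 then 1 else 0, by simp [om]⟩

/-- additive similitudes of the form are semilinear -/
theorem sem_alg (h3 : (3 : K) ≠ 0) (g : (Fin 4 → K) ≃+ (Fin 4 → K)) (z : K ≃+ K)
    (h : ∀ v w, om (g v) (g w) = z (om v w)) :
    ∃ τ : K ≃+* K, (∀ x, z x = z 1 * τ x) ∧ ∀ (c : K) (v : Fin 4 → K), g (c • v) = τ c • g v := by
  -- the conjugates of the multiplications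
  let hk : K → (Fin 4 → K) → (Fin 4 → K) := fun k v => g.symm (k • g v)
  let ks : K → K → K := fun k x => z.symm (k * z x)
  have e1 : ∀ k v w, om (hk k v) w = ks k (om v w) := by
    intro k v w
    apply z.injective
    rw [← h, AddEquiv.apply_symm_apply, AddEquiv.apply_symm_apply, om_smul_left, h]
  have e2 : ∀ k v w, om v (hk k w) = ks k (om v w) := by
    intro k v w
    apply z.injective
    rw [← h, AddEquiv.apply_symm_apply, AddEquiv.apply_symm_apply, om_smul_right, h]
  have e3 : ∀ (k c : K) (v : Fin 4 → K), hk k (c • v) = c • hk k v := by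
    intro k c v
    rw [← sub_eq_zero]
    apply om_nd h3
    intro w
    rw [om_sub_left, om_smul_left, e1, ← e2, om_smul_left, e2, e1, sub_self]
  have e4 : ∀ k c x, ks k (c * x) = c * ks k x := by
    intro k c x
    obtain ⟨v, w, rfl⟩ := om_surj x
    rw [← om_smul_left, ← e1, e3, om_smul_left, e1]
  have e5 : ∀ k x, ks k x = x * ks k 1 := by
    intro k x
    have := e4 k x 1
    rwa [mul_one] at this
  have e6 : ∀ k v, hk k v = ks k 1 • v := by
    intro k v
    rw [← sub_eq_zero]
    apply om_nd h3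
    intro w
    rw [om_sub_left, om_smul_left, e1, e5, mul_comm, sub_self]
  have e7 : ∀ k x, k * z x = z (x * ks k 1) := by
    intro k x
    rw [← e5, AddEquiv.apply_symm_apply]
  have hz1 : z 1 ≠ 0 := fun h1 => one_ne_zero (z.injective (h1.trans (map_zero z).symm))
  -- the field automorphism
  let κ : K ≃+* K :=
    { toFun := fun k => ks k 1
      invFun := fun x => z x * (z 1)⁻¹
      left_inv := fun k => by
        show z (ks k 1) * (z 1)⁻¹ = k
        rw [AddEquiv.apply_symm_apply, mul_assoc, mul_inv_cancel₀ hz1, mul_one]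
      right_inv := fun x => by
        show z.symm (z x * (z 1)⁻¹ * z 1) = x
        rw [mul_assoc, inv_mul_cancel₀ hz1, mul_one, AddEquiv.symm_apply_apply]
      map_mul' := fun k l => by
        apply z.injective
        show z (ks (k * l) 1) = z (ks k 1 * ks l 1)
        rw [AddEquiv.apply_symm_apply, mul_comm (ks k 1), ← e7, AddEquiv.apply_symm_apply, mul_assoc]
      map_add' := fun k l => by
        apply z.injective
        show z (ks (k + l) 1) = z (ks k 1 + ks l 1)
        rw [map_add, AddEquiv.apply_symm_apply, AddEquiv.apply_symm_apply, AddEquiv.apply_symm_apply, add_mul] }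
  have hκ : ∀ k, κ k = ks k 1 := fun k => rfl
  refine ⟨κ.symm, fun x => ?_, fun c v => ?_⟩
  · have h1 := e7 (κ.symm x) 1
    rw [← hκ, RingEquiv.apply_symm_apply, one_mul] at h1
    rw [← h1, mul_comm]
  · have h1 := e6 (κ.symm c) v
    rw [← hκ, RingEquiv.apply_symm_apply] at h1
    rw [← h1, AddEquiv.apply_symm_apply]

end alg

section grp

variable {K : Type u} [Field K]

/-- coordinates of `Q_a / Z₁` -/
def ph (x : GU K) : Fin 4 → K := ![x.b, x.c, x.d, x.e]

/-- the section -/
def sc (v : Fin 4 → K) : Qa K := ⟨⟨0, v 0, v 1, v 2, v 3, 0⟩, rfl⟩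

/-- the elements of `Z₁` -/
def zz (t : K) : Qa K := ⟨⟨0, 0, 0, 0, 0, t⟩, rfl⟩

theorem ph_sc (v : Fin 4 → K) : ph (sc v : GU K) = v := by
  funext i
  fin_cases i <;> rfl

theorem a_eq (x : Qa K) : (x : GU K).a = 0 := x.2

theorem ph_mul (x y : Qa K) : ph ((x * y : Qa K) : GU K) = ph (x : GU K) + ph (y : GU K) := by
  have hx := a_eq x
  have hy := a_eq y
  funext i
  fin_cases i
  · show ((x : GU K) * (y : GU K)).b = (x : GU K).b + (y : GU K).b
    simp
  · show ((x : GU K) * (y : GU K)).c = (x : GU K).c + (y : GU K).c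
    simp [hy]
  · show ((x : GU K) * (y : GU K)).d = (x : GU K).d + (y : GU K).d
    simp [hy]
  · show ((x : GU K) * (y : GU K)).e = (x : GU K).e + (y : GU K).e
    simp [hy]

theorem mul_zz (x : Qa K) (t : K) : ((zz t * x : Qa K) : GU K) =
    ⟨(x : GU K).a, (x : GU K).b, (x : GU K).c, (x : GU K).d, (x : GU K).e, t + (x : GU K).f⟩ := by
  show (zz t : GU K) * (x : GU K) = _
  ext <;> simp [zz]

/-- the commutator -/
theorem comm_eq (x y : Qa K) : x * y = zz (om (ph (x : GU K)) (ph (y : GU K))) * (y * x) := by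
  have hx := a_eq x
  have hy := a_eq y
  apply Subtype.ext
  rw [mul_zz]
  have h1 : ((y * x : Qa K) : GU K) = (y : GU K) * (x : GU K) := rfl
  have h2 : ((x * y : Qa K) : GU K) = (x : GU K) * (y : GU K) := rfl
  rw [h1, h2]
  ext
  · simp [hx, hy]
  · simp [add_comm]
  · simp [hx, hy, add_comm]
  · simp [hx, hy, add_comm]
  · simp [hx, hy, add_comm]
  · simp only [GU.mul_f, hx, hy, om, ph, Matrix.cons_val_zero, Matrix.cons_val_one, Matrix.cons_val]
    ring

theorem zz_mul (s t : K) : (zz s : Qa K) * zz t = zz (s + t) := by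
  apply Subtype.ext
  rw [mul_zz]
  rfl

theorem zz_inj : Function.Injective (zz : K → Qa K) := by
  intro s t h
  exact congrArg (fun x : Qa K => (x : GU K).f) h

theorem ph_zz (t : K) : ph (zz t : GU K) = 0 := by
  funext i
  fin_cases i <;> rfl

theorem eq_zz {x : Qa K} (h : ph (x : GU K) = 0) : x = zz (x : GU K).f := by
  apply Subtype.ext
  have h0 : (x : GU K).b = 0 := congrFun h 0
  have h1 : (x : GU K).c = 0 := congrFun h 1
  have h2 : (x : GU K).d = 0 := congrFun h 2
  have h3 : (x : GU K).e = 0 := congrFun h 3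
  ext
  · exact a_eq x
  · exact h0
  · exact h1
  · exact h2
  · exact h3
  · rfl

/-- `Z₁` is the centre of `Q_a` -/
theorem ph_eq_zero_iff (h3 : (3 : K) ≠ 0) (x : Qa K) : ph (x : GU K) = 0 ↔ ∀ y : Qa K, x * y = y * x := by
  constructor
  · intro h y
    rw [comm_eq, h]
    have : om (0 : Fin 4 → K) (ph (y : GU K)) = 0 := by simp [om]
    rw [this]
    apply Subtype.ext
    rw [mul_zz, zero_add]
  · intro h
    apply om_nd h3
    intro w
    have h1 := comm_eq x (sc w)
    rw [ph_sc, h (sc w)] at h1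
    have h2 : zz (om (ph (x : GU K)) w) = (1 : Qa K) := by
      have h4 : zz (om (ph (x : GU K)) w) * (sc w * x) = 1 * (sc w * x) := by rw [one_mul]; exact h1.symm
      exact mul_right_cancel h4
    have h5 : (zz (0 : K) : Qa K) = 1 := rfl
    rw [← h5] at h2
    exact zz_inj h2

variable (h3 : (3 : K) ≠ 0)

include h3 in
theorem ph_map_zz (γ : MulAut (Qa K)) {x : Qa K} (h : ph (x : GU K) = 0) : ph ((γ x : Qa K) : GU K) = 0 := by
  rw [ph_eq_zero_iff h3] at h ⊢
  intro y
  have := congrArg γ (h (γ⁻¹ y))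
  rw [map_mul, map_mul] at this
  have h1 : γ (γ⁻¹ y) = y := MulAut.apply_inv_self _ γ y
  rwa [h1] at this

include h3 in
/-- `γ x` modulo `Z₁` depends only on `x` modulo `Z₁` -/
theorem ph_congr (γ : MulAut (Qa K)) {x y : Qa K} (h : ph (x : GU K) = ph (y : GU K)) :
    ph ((γ x : Qa K) : GU K) = ph ((γ y : Qa K) : GU K) := by
  have h1 : ph ((x * y⁻¹ : Qa K) : GU K) = 0 := by
    have h2 := ph_mul (x * y⁻¹) y
    rw [inv_mul_cancel_right, h] at h2
    exact left_eq_add.1 (by rw [add_comm] at h2; exact h2)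
  have h2 := ph_map_zz h3 γ h1
  have h4 := ph_mul (γ (x * y⁻¹)) (γ y)
  rw [← map_mul, inv_mul_cancel_right, h2, zero_add] at h4
  exact h4

/-- the induced map on `K⁴` -/
noncomputable def gV (γ : MulAut (Qa K)) : (Fin 4 → K) ≃+ (Fin 4 → K) where
  toFun v := ph ((γ (sc v) : Qa K) : GU K)
  invFun v := ph ((γ⁻¹ (sc v) : Qa K) : GU K)
  left_inv v := by
    have h1 := ph_congr h3 γ⁻¹ (x := sc (ph ((γ (sc v) : Qa K) : GU K))) (y := γ (sc v)) (ph_sc _)
    exact h1.trans (by rw [MulAut.inv_apply_self, ph_sc])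
  right_inv v := by
    have h1 := ph_congr h3 γ (x := sc (ph ((γ⁻¹ (sc v) : Qa K) : GU K))) (y := γ⁻¹ (sc v)) (ph_sc _)
    exact h1.trans (by rw [MulAut.apply_inv_self, ph_sc])
  map_add' v w := by
    have h1 := ph_congr h3 γ (x := sc (v + w)) (y := sc v * sc w) (by rw [ph_sc, ph_mul, ph_sc, ph_sc])
    rw [h1, map_mul, ph_mul]

theorem gV_ph (γ : MulAut (Qa K)) (x : Qa K) : ph ((γ x : Qa K) : GU K) = gV h3 γ (ph (x : GU K)) :=
  ph_congr h3 γ (ph_sc _).symm

include h3 in
theorem map_zz (γ : MulAut (Qa K)) (t : K) : γ (zz t) = zz ((γ (zz t) : Qa K) : GU K).f :=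
  eq_zz (ph_map_zz h3 γ (ph_zz t))

/-- the induced map on `Z₁` -/
noncomputable def gZ (γ : MulAut (Qa K)) : K ≃+ K where
  toFun t := ((γ (zz t) : Qa K) : GU K).f
  invFun t := ((γ⁻¹ (zz t) : Qa K) : GU K).f
  left_inv t := by
    show ((γ⁻¹ (zz ((γ (zz t) : Qa K) : GU K).f) : Qa K) : GU K).f = t
    rw [← map_zz h3, MulAut.inv_apply_self]; rfl
  right_inv t := by
    show ((γ (zz ((γ⁻¹ (zz t) : Qa K) : GU K).f) : Qa K) : GU K).f = t
    rw [← map_zz h3, MulAut.apply_inv_self]; rfl
  map_add' s t := by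
    rw [← zz_mul, map_mul, map_zz h3 γ s, map_zz h3 γ t, zz_mul]
    rfl

theorem gZ_zz (γ : MulAut (Qa K)) (t : K) : γ (zz t) = zz (gZ h3 γ t) := map_zz h3 γ t

theorem om_gV (γ : MulAut (Qa K)) (v w : Fin 4 → K) : om (gV h3 γ v) (gV h3 γ w) = gZ h3 γ (om v w) := by
  have h1 := congrArg γ (comm_eq (sc v) (sc w))
  rw [map_mul, map_mul, map_mul, ph_sc, ph_sc, gZ_zz h3, comm_eq (γ (sc v)) (γ (sc w))] at h1
  exact zz_inj (mul_right_cancel h1)

end grp

/-- **(SEM)** -/
theorem stSem : StSem.{u} := by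
  intro K _ p n hG hp γ
  have h3 : (3 : K) ≠ 0 := by
    intro h0
    have := hG.char
    have h1 : ((3 : ℕ) : K) = 0 := by exact_mod_cast h0
    rw [CharP.cast_eq_zero_iff K p] at h1
    exact hp ((Nat.prime_dvd_prime_iff_eq hG.pp Nat.prime_three).1 h1)
  obtain ⟨τ, hz, hg⟩ := sem_alg h3 (gV h3 γ) (gZ h3 γ) (om_gV h3 γ)
  have key : ∀ (x : Qa K) (i : Fin 4), ph ((γ x : Qa K) : GU K) i =
      gV h3 γ (Pi.single 0 1) i * τ (x : GU K).b + gV h3 γ (Pi.single 1 1) i * τ (x : GU K).c +
      gV h3 γ (Pi.single 2 1) i * τ (x : GU K).d + gV h3 γ (Pi.single 3 1) i * τ (x : GU K).e := by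
    intro x i
    have h1 : ph (x : GU K) = ∑ j, (ph (x : GU K)) j • (Pi.single j (1 : K) : Fin 4 → K) := by
      funext k
      rw [Finset.sum_apply, Finset.sum_eq_single k]
      · simp
      · intro b _ hb
        simp [Pi.single_apply, hb.symm]
      · intro h
        exact absurd (Finset.mem_univ k) h
    rw [gV_ph h3, h1, map_sum, Fin.sum_univ_four, hg, hg, hg, hg]
    simp only [Pi.add_apply, Pi.smul_apply, smul_eq_mul]
    have e0 : ph (x : GU K) 0 = (x : GU K).b := rfl
    have e1 : ph (x : GU K) 1 = (x : GU K).c := rfl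
    have e2 : ph (x : GU K) 2 = (x : GU K).d := rfl
    have e4 : ph (x : GU K) 3 = (x : GU K).e := rfl
    rw [e0, e1, e2, e4]
    ring
  refine ⟨τ, Matrix.of fun i j => gV h3 γ (Pi.single j 1) i, gZ h3 γ 1, ?_, fun x => key x 0, fun x => key x 1,
    fun x => key x 2, fun x => key x 3, ?_⟩
  · intro h0
    exact one_ne_zero ((gZ h3 γ).injective (h0.trans (map_zero _).symm))
  · intro x hx
    have hx0 : ph (x : GU K) = 0 := by
      obtain ⟨-, h1, h2, h4, h5⟩ := hx
      funext i
      fin_cases i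
      · exact h1
      · exact h2
      · exact h4
      · exact h5
    have h1 := eq_zz hx0
    have h2 : γ x = zz (gZ h3 γ 1 * τ (x : GU K).f) := by
      rw [← hz, ← gZ_zz h3, ← h1]
    rw [h2]
    exact ⟨⟨rfl, rfl, rfl, rfl, rfl⟩, rfl⟩

end Cfsg.Agent.H778.GT
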